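import Cfsg.Agent.H399.IF.Tools
import Cfsg.Agent.UGT.EndJ1.Inner
import Cfsg.Agent.UGT.EndJ1.Data

/-!
# S5719: the row `J1` (helper109)

All involutions of `T` are conjugate, `|C(t)| = 120`, all automorphisms of order 2 are inner. If `t ∈ A` then `f(t) ≤ 4`,
so `A` contains the elements of order 5 of `C(t)`; `z = c (k c² k⁻¹)` is an involution, and the elements
`c ^ i z c ^ -i t ^ e` are ten involutions of `A`; but `A` contains at most 6.
-/

set_option autoImplicit false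

namespace Cfsg.Agent.H109.IFx.J1

open Cfsg Cfsg.Agent.H209.Fxy Cfsg.Agent.H399.IF Subgroup Cfsg.Agent.UGT.EndJ1.Abs

variable {T : Type*} [Group T]

theorem index_t (D : Dat T) : (centralizer ({D.t} : Set T)).index = 1463 := by
  have := D.fin
  exact H399.IF.index_eq D.card D.card_C (by norm_num) (by norm_num)

/-- the product `c u` of two commuting elements of order 5 which is an involution is trivial -/
theorem not_comm {c u : T} (hc : c ^ 5 = 1) (hu : u ^ 5 = 1) (h2 : (c * u) * (c * u) = 1) (h1 : c * u ≠ 1)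
    (hz : Commute c (c * u)) : False := by
  have h3 : Commute c u := by
    have h4 : c * (c * u) = (c * u) * c := hz.eq
    have h5 : c * (c * u) = c * (u * c) := by rw [h4]; group
    exact mul_left_cancel h5
  have h4 : (c * u) ^ 5 = 1 := by rw [h3.mul_pow, hc, hu, one_mul]
  apply h1
  calc c * u = (c * u) * ((c * u) * (c * u)) * ((c * u) * (c * u)) := by rw [h2]; group
    _ = (c * u) ^ 5 := by
        simp only [pow_succ, pow_zero, one_mul, mul_assoc]
    _ = 1 := h4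

/-- ten involutions -/
theorem ten {c z t : T} (hc : orderOf c = 5) (hz : ¬ Commute c z) (ht : t * t = 1) (ht1 : t ≠ 1)
    (hct : c * t = t * c) (hzt : z * t = t * z) :
    Function.Injective fun p : Fin 5 × Fin 2 => c ^ (p.1 : ℕ) * z * (c ^ (p.1 : ℕ))⁻¹ * t ^ (p.2 : ℕ) := by
  rintro ⟨i, e⟩ ⟨j, e'⟩ h
  have h1 : c ^ (i : ℕ) * z * (c ^ (i : ℕ))⁻¹ * t ^ (e : ℕ) = c ^ (j : ℕ) * z * (c ^ (j : ℕ))⁻¹ * t ^ (e' : ℕ) := h
  have Hct : Commute c t := hct
  have Hzt : Commute z t := hzt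
  -- `x z x⁻¹ = z s` with `s` in `⟨t⟩`
  set x := (c ^ (j : ℕ))⁻¹ * c ^ (i : ℕ) with hx
  set s := t ^ (e' : ℕ) * (t ^ (e : ℕ))⁻¹ with hs
  have hcs : Commute c s := (Hct.pow_right _).mul_right (Hct.pow_right _).inv_right
  have hzs : Commute z s := (Hzt.pow_right _).mul_right (Hzt.pow_right _).inv_right
  have hts : ∀ n : ℕ, (t ^ n) * (t ^ n) = 1 := by
    intro n
    rw [← (Commute.refl t).mul_pow, ht, one_pow]
  have hss : s * s = 1 := by
    have h2 : Commute (t ^ (e' : ℕ)) (t ^ (e : ℕ))⁻¹ := ((Commute.refl t).pow_pow _ _).inv_right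
    have h3 : (t ^ (e : ℕ))⁻¹ = t ^ (e : ℕ) := inv_eq_of_mul_eq_one_left (hts _)
    rw [hs, h3]
    calc t ^ (e' : ℕ) * t ^ (e : ℕ) * (t ^ (e' : ℕ) * t ^ (e : ℕ))
        = t ^ (e' : ℕ) * (t ^ (e : ℕ) * t ^ (e' : ℕ)) * t ^ (e : ℕ) := by group
      _ = t ^ (e' : ℕ) * (t ^ (e' : ℕ) * t ^ (e : ℕ)) * t ^ (e : ℕ) := by rw [((Commute.refl t).pow_pow _ _).eq]
      _ = (t ^ (e' : ℕ) * t ^ (e' : ℕ)) * (t ^ (e : ℕ) * t ^ (e : ℕ)) := by group
      _ = 1 := by rw [hts, hts, one_mul]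
  have hxs : Commute x s := ((hcs.pow_left _).inv_left).mul_left (hcs.pow_left _)
  have h2 : x * z * x⁻¹ = z * s := by
    have h3 : c ^ (i : ℕ) * z * (c ^ (i : ℕ))⁻¹ = c ^ (j : ℕ) * z * (c ^ (j : ℕ))⁻¹ * s := by
      rw [hs, ← mul_assoc, ← h1, mul_inv_cancel_right]
    calc x * z * x⁻¹ = (c ^ (j : ℕ))⁻¹ * (c ^ (i : ℕ) * z * (c ^ (i : ℕ))⁻¹) * c ^ (j : ℕ) := by rw [hx]; group
      _ = z * ((c ^ (j : ℕ))⁻¹ * s * c ^ (j : ℕ)) := by rw [h3]; group
      _ = z * s := by rw [(hcs.pow_left (j : ℕ)).inv_left.eq, inv_mul_cancel_right]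
  have h3 : Commute (x * x) z := by
    have h4 : (x * x) * z * (x * x)⁻¹ = z := by
      calc (x * x) * z * (x * x)⁻¹ = x * (x * z * x⁻¹) * x⁻¹ := by group
        _ = x * (z * s) * x⁻¹ := by rw [h2]
        _ = (x * z * x⁻¹) * (x * s * x⁻¹) := by group
        _ = z * s * s := by rw [h2, hxs.eq, mul_inv_cancel_right]
        _ = z := by rw [mul_assoc, hss, mul_one]
    exact mul_inv_eq_iff_eq_mul.1 h4
  have hc5 : c ^ 5 = 1 := by rw [← hc, pow_orderOf_eq_one]
  have hcx : Commute c x := ((Commute.refl c).pow_right _).inv_right.mul_right ((Commute.refl c).pow_right _)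
  have hx5 : x ^ 5 = 1 := by
    have h4 : Commute (c ^ (j : ℕ))⁻¹ (c ^ (i : ℕ)) := ((Commute.refl c).pow_pow _ _).inv_left
    rw [hx, h4.mul_pow, inv_pow, ← pow_mul, ← pow_mul, mul_comm (j : ℕ), mul_comm (i : ℕ), pow_mul, pow_mul, hc5,
      one_pow, one_pow, inv_one, mul_one]
  have h4 : Commute x z := by
    have h5 : x = (x * x) ^ 3 := by
      rw [← pow_two, ← pow_mul, show 2 * 3 = 5 + 1 by norm_num, pow_succ, hx5, one_mul]
    rw [h5]
    exact h3.pow_left 3
  have h5 : x = 1 := by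
    by_contra hne
    apply hz
    -- `c` is a power of `x`
    have h6 : x ∈ zpowers c := (zpowers c).mul_mem ((zpowers c).inv_mem (npow_mem_zpowers c _)) (npow_mem_zpowers c _)
    have h7 : zpowers x = zpowers c := by
      have : Finite (zpowers c) := by
        apply Nat.finite_of_card_ne_zero
        rw [Nat.card_zpowers, hc]
        norm_num
      apply Subgroup.eq_of_le_of_card_ge (zpowers_le.2 h6)
      rw [Nat.card_zpowers, Nat.card_zpowers, hc]
      have : Fact (Nat.Prime 5) := ⟨by norm_num⟩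
      rw [orderOf_eq_prime hx5 hne]
    have h8 : c ∈ zpowers x := by rw [h7]; exact mem_zpowers c
    obtain ⟨k, hk⟩ := mem_zpowers_iff.1 h8
    rw [← hk]
    exact h4.zpow_left k
  have h6 : i = j := by
    have h7 : c ^ (i : ℕ) = c ^ (j : ℕ) := (inv_mul_eq_one.1 h5).symm
    have h8 := pow_injOn_Iio_orderOf (x := c) (by rw [Set.mem_Iio, hc]; exact i.2) (by rw [Set.mem_Iio, hc]; exact j.2) h7
    exact Fin.ext h8
  subst h6
  have h7 : t ^ (e : ℕ) = t ^ (e' : ℕ) := mul_left_cancel h1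
  have h8 : e = e' := by
    have ho : orderOf t = 2 := by
      have : Fact (Nat.Prime 2) := ⟨Nat.prime_two⟩
      exact orderOf_eq_prime (by rw [pow_two, ht]) ht1
    have h9 := pow_injOn_Iio_orderOf (x := t) (by rw [Set.mem_Iio, ho]; exact e.2) (by rw [Set.mem_Iio, ho]; exact e'.2) h7
    exact Fin.ext h9
  rw [h8]

/-- **No counterexample in a group with the data of `J1`.** -/
theorem kill [Finite T] [IsSimpleGroup T] (hna : ∃ a b : T, a * b ≠ b * a) (D : Dat T) : Kill T := by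
  classical
  intro A Γ h
  obtain ⟨σ, hσ, ho, -⟩ := h.ex
  obtain ⟨u, rfl⟩ := UGT.EndJ1.Inner.exists_conj hna D.bal.syl σ ho
  have hu : u ∈ A := (h.conj u).1 hσ
  rw [H999.IFB.orderOf_conj hna] at ho
  have huu : u * u = 1 := by rw [← pow_two, ← ho, pow_orderOf_eq_one]
  have hu1 : u ≠ 1 := by
    rintro rfl
    rw [orderOf_one] at ho
    omega
  obtain ⟨g, hg⟩ := D.conj_t huu hu1
  -- `t ∈ A' = g⁻¹ A g`
  have hA := h.map (MulAut.conj g⁻¹)
  set A' := A.map (MulAut.conj g⁻¹).toMonoidHom with hA'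
  have ht : D.t ∈ A' := by
    refine ⟨u, hu, ?_⟩
    change MulAut.conj g⁻¹ u = D.t
    rw [← hg, MulAut.conj_apply]
    group
  have hot : orderOf D.t = 2 := by
    have : Fact (Nat.Prime 2) := ⟨Nat.prime_two⟩
    exact orderOf_eq_prime (by rw [pow_two, D.tt]) D.t1
  have hf5 := five hA hna ht hot
  rw [index_t D] at hf5
  have hf : ff A' D.t < 5 := by
    by_contra hc
    push Not at hc
    have := Nat.pow_le_pow_left hc 5
    omega
  have hmem : ∀ y : T, y * D.t = D.t * y → y ^ 5 = 1 → y ∈ A' := fun y hy hy5 =>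
    mem_of_prime hA hna ht hot (by norm_num) hf hy hy5
  set v := D.k * (D.c * D.c) * D.k⁻¹ with hv
  have hv5 : v ^ 5 = 1 := by
    rw [hv, conj_pow, ← pow_two, ← pow_mul, mul_comm 2 5, pow_mul, D.c5, one_pow, mul_one, mul_inv_cancel]
  have Hk : Commute D.k D.t := D.kt
  have Hc : Commute D.c D.t := D.ct
  have Hv : Commute v D.t := (Hk.mul_left (Hc.mul_left Hc)).mul_left Hk.inv_left
  have hcA : D.c ∈ A' := hmem _ D.ct D.c5
  have hvA : v ∈ A' := hmem _ Hv.eq hv5
  set z := D.c * v with hz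
  have Hz : Commute z D.t := Hc.mul_left Hv
  have hzz : z * z = 1 := D.hc
  have hz1 : z ≠ 1 := D.hc1
  have hzA : z ∈ A' := A'.mul_mem hcA hvA
  have hoc : orderOf D.c = 5 := by
    have : Fact (Nat.Prime 5) := ⟨by norm_num⟩
    exact orderOf_eq_prime D.c5 D.c1
  have hnc : ¬ Commute D.c z := fun hcz => not_comm D.c5 hv5 hzz hz1 hcz
  have hinj := ten hoc hnc D.tt D.t1 D.ct Hz.eq
  let S : Finset T := Finset.univ.image
    fun p : Fin 5 × Fin 2 => D.c ^ (p.1 : ℕ) * z * (D.c ^ (p.1 : ℕ))⁻¹ * D.t ^ (p.2 : ℕ)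
  have hS : S.card = 10 := by
    rw [Finset.card_image_of_injective _ hinj, Finset.card_univ]
    simp
  have hle : S.card ≤ kk A' D.t := by
    apply le_kk
    intro s hs
    obtain ⟨p, -, rfl⟩ := Finset.mem_image.1 hs
    refine ⟨A'.mul_mem (A'.mul_mem (A'.mul_mem (A'.pow_mem hcA _) hzA) (A'.inv_mem (A'.pow_mem hcA _)))
      (A'.pow_mem ht _), ?_⟩
    set y := D.c ^ (p.1 : ℕ) * z * (D.c ^ (p.1 : ℕ))⁻¹ with hy
    have hyy : y * y = 1 := by
      calc y * y = D.c ^ (p.1 : ℕ) * (z * z) * (D.c ^ (p.1 : ℕ))⁻¹ := by rw [hy]; group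
        _ = 1 := by rw [hzz]; group
    have Hy : Commute y D.t := ((Hc.pow_left _).mul_left Hz).mul_left (Hc.pow_left _).inv_left
    have h1 : (y * D.t ^ (p.2 : ℕ)) * (y * D.t ^ (p.2 : ℕ)) = 1 := by
      have h2 : Commute y (D.t ^ (p.2 : ℕ)) := Hy.pow_right _
      rw [← pow_two, h2.mul_pow, pow_two, hyy, one_mul, ← pow_mul, mul_comm, pow_mul, pow_two, D.tt, one_pow]
    have h3 : y * D.t ^ (p.2 : ℕ) ≠ 1 := by
      intro h4
      apply hnc
      -- `y` commutes with `c`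
      have h5 : y = (D.t ^ (p.2 : ℕ))⁻¹ := eq_inv_of_mul_eq_one_left h4
      have h6 : Commute D.c y := by rw [h5]; exact (Hc.pow_right _).inv_right
      have h7 : z = (D.c ^ (p.1 : ℕ))⁻¹ * y * D.c ^ (p.1 : ℕ) := by rw [hy]; group
      rw [h7]
      exact (((Commute.refl D.c).pow_right _).inv_right.mul_right h6).mul_right ((Commute.refl D.c).pow_right _)
    obtain ⟨w, hw⟩ := D.conj_t h1 h3
    exact isConj_iff.2 ⟨w, hw⟩
  have h1 := cnt hA hna ht hot
  have h2 := small hA hna ht hot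
  rw [index_t D] at h1
  have h3 := hA.big
  have h4 : A'.index * 10 ≤ ff A' D.t * 1463 := by
    rw [h1]
    exact Nat.mul_le_mul_left _ (hS ▸ hle)
  generalize ff A' D.t = f at *
  interval_cases f <;> omega

/-- **S5719, the row `J1`** -/
theorem row : Row fun T => Spor.IsoJ1 T := by
  intro T _ _ _ _ h A Γ hA
  obtain ⟨e⟩ := h
  obtain ⟨D⟩ := UGT.EndJ1.Data.exists_dat
  have hs : IsSimpleGroup Spor.J1 := SporadicB.J1.Main.isJ1.1
  have hfin : Finite Spor.J1 := D.fin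
  have hna : ∃ a b : Spor.J1, a * b ≠ b * a := by
    by_contra hc
    push Not at hc
    refine not_comm D.c5 (u := D.k * (D.c * D.c) * D.k⁻¹) ?_ D.hc D.hc1 (hc _ _)
    rw [conj_pow, ← pow_two, ← pow_mul, mul_comm 2 5, pow_mul, D.c5, one_pow, mul_one, mul_inv_cancel]
  exact (kill hna D).congr e.symm A Γ hA

end Cfsg.Agent.H109.IFx.J1
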